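import Mathlib

/-! Finitely presented approximation of a finite module which is free after localisations. -/

universe u

namespace Groth.Agent.H1Punct

variable {A : Type u} [CommRing A] {M : Type u} [AddCommGroup M] [Module A M] {N₀ : ℕ}
variable (π : (Fin N₀ → A) →ₗ[A] M)

/-- Finitely many relations, and an almost factorization through a free module. -/
theorem exists_local (hπ : Function.Surjective π) (g : A) (S : Type u) [CommRing S] [Algebra A S]
    [IsLocalization.Away g S] (N : Type u) [AddCommGroup N] [Module A N] [Module S N] [IsScalarTower A S N]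
    (f : M →ₗ[A] N) [IsLocalizedModule.Away g f] (n : ℕ) (b : Module.Basis (Fin n) S N) :
    ∃ (x : Fin N₀ → (Fin N₀ → A)) (t : (Fin N₀ → A) →ₗ[A] (Fin n → A)) (s : (Fin n → A) →ₗ[A] (Fin N₀ → A))
      (k : ℕ), (∀ j, π (x j) = 0) ∧ (∀ j, s (t (Pi.single j 1)) = g ^ k • Pi.single j 1 - x j) ∧
      ∀ r, π r = 0 → ∃ l : ℕ, g ^ l • r ∈ Submodule.span A (Set.range x) ∧ g ^ l • t r = 0 := by
  classical
  -- clear denominators of the basis
  have h1 : ∀ i, ∃ (m : Fin N₀ → A) (q : ℕ), f (π m) = g ^ q • b i := fun i => by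
    obtain ⟨⟨m, ⟨_, q, rfl⟩⟩, hm⟩ := IsLocalizedModule.surj (Submonoid.powers g) f (b i)
    obtain ⟨m', rfl⟩ := hπ m
    exact ⟨m', q, hm.symm⟩
  choose m q hm using h1
  let Q := ∑ i, q i
  let μ : Fin n → (Fin N₀ → A) := fun i => g ^ (Q - q i) • m i
  have hμ : ∀ i, f (π (μ i)) = g ^ Q • b i := fun i => by
    simp only [μ, map_smul, hm]
    rw [smul_smul, ← pow_add, Nat.sub_add_cancel (Finset.single_le_sum (fun i _ => Nat.zero_le (q i)) (Finset.mem_univ i))]
  -- clear denominators of the coordinates of the generators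
  obtain ⟨⟨_, p, rfl⟩, hp⟩ := IsLocalization.exist_integer_multiples (Submonoid.powers g)
    (Finset.univ : Finset (Fin N₀ × Fin n)) (fun z => b.repr (f (π (Pi.single z.1 1))) z.2)
  choose d hd using fun j i => hp (j, i) (Finset.mem_univ _)
  have hd' : ∀ j, g ^ p • f (π (Pi.single j 1)) = ∑ i, d j i • b i := fun j => by
    rw [← b.sum_repr (f (π (Pi.single j 1))), Finset.smul_sum]
    refine Finset.sum_congr rfl fun i _ => ?_
    rw [← smul_assoc]
    exact (congrArg (· • b i) (hd j i)).symm.trans (algebraMap_smul S (d j i) (b i))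
  -- torsion
  have h2 : ∀ j, ∃ l : ℕ, g ^ l • π (g ^ (p + Q) • Pi.single j 1 - ∑ i, d j i • μ i) = 0 := fun j => by
    have h0 : f (π (g ^ (p + Q) • Pi.single j 1 - ∑ i, d j i • μ i)) = 0 := by
      simp only [map_sub, map_smul, map_sum, hμ]
      rw [pow_add, mul_comm, mul_smul, hd', Finset.smul_sum, sub_eq_zero]
      exact Finset.sum_congr rfl fun i _ => smul_comm _ _ _
    obtain ⟨⟨_, l, rfl⟩, hl⟩ := (IsLocalizedModule.eq_zero_iff (Submonoid.powers g) f).1 h0
    exact ⟨l, hl⟩
  choose l hl using h2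
  let L := ∑ j, l j
  let t : (Fin N₀ → A) →ₗ[A] (Fin n → A) := Fintype.linearCombination A (fun j i => g ^ L * d j i)
  let s : (Fin n → A) →ₗ[A] (Fin N₀ → A) := Fintype.linearCombination A μ
  let x : Fin N₀ → (Fin N₀ → A) := fun j => g ^ (L + (p + Q)) • Pi.single j 1 - s (t (Pi.single j 1))
  have hx : ∀ j, π (x j) = 0 := fun j => by
    have he : x j = g ^ L • (g ^ (p + Q) • Pi.single j 1 - ∑ i, d j i • μ i) := by
      simp only [x, t, s, Fintype.linearCombination_apply_single, one_smul]
      rw [smul_sub, smul_smul, ← pow_add, Fintype.linearCombination_apply, Finset.smul_sum]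
      simp only [smul_smul]
    obtain ⟨c, hc⟩ : ∃ c, L = c + l j :=
      ⟨L - l j, (Nat.sub_add_cancel (Finset.single_le_sum (fun j _ => Nat.zero_le (l j)) (Finset.mem_univ j))).symm⟩
    rw [he, map_smul, hc, pow_add, mul_smul, hl, smul_zero]
  refine ⟨x, t, s, L + (p + Q), hx, fun j => by simp only [x, sub_sub_cancel], fun r hr => ?_⟩
  -- `r` times a power of `g` is a combination of the relations plus `s (t r)`
  have hsplit : g ^ (L + (p + Q)) • r = ∑ j, r j • x j + s (t r) := by
    have hr2 : r = ∑ j, r j • Pi.single j (1 : A) := by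
      simp only [← Pi.single_smul, smul_eq_mul, mul_one, Finset.univ_sum_single]
    conv_lhs => rw [hr2]
    conv_rhs => arg 2; rw [hr2]
    simp only [map_sum, map_smul, ← Finset.sum_add_distrib, Finset.smul_sum, x]
    refine Finset.sum_congr rfl fun j _ => ?_
    rw [smul_sub, sub_add_cancel, smul_comm]
  have h3 : ∀ i, algebraMap A S (t r i) = 0 := by
    have h0 : ∑ i, algebraMap A S (t r i) • b i = 0 := by
      have h5 : f (π (s (t r))) = 0 := by
        have h6 : π (s (t r)) = 0 := by
          have := congrArg π hsplit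
          simp only [map_smul, map_add, map_sum, hr, hx, smul_zero, Finset.sum_const_zero, zero_add] at this
          exact this.symm
        rw [h6, map_zero]
      rw [show s (t r) = ∑ i, t r i • μ i from Fintype.linearCombination_apply _ _ _] at h5
      simp only [map_sum, map_smul, hμ] at h5
      simp only [algebraMap_smul]
      have h7 : g ^ Q • ∑ i, t r i • b i = 0 := by
        rw [Finset.smul_sum, ← h5]; exact Finset.sum_congr rfl fun i _ => smul_comm _ _ _
      rw [← algebraMap_smul S (g ^ Q)] at h7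
      exact ((IsLocalization.map_units S (⟨_, Q, rfl⟩ : Submonoid.powers g)).smul_eq_zero).1 h7
    exact Fintype.linearIndependent_iff.1 b.linearIndependent _ h0
  have h4 : ∀ i, ∃ e : ℕ, g ^ e * t r i = 0 := fun i => by
    obtain ⟨⟨_, e, rfl⟩, he⟩ := (IsLocalization.map_eq_zero_iff (Submonoid.powers g) S _).1 (h3 i)
    exact ⟨e, he⟩
  choose e he using h4
  let E := ∑ i, e i
  have hE : g ^ E • t r = 0 := funext fun i => by
    show g ^ E * t r i = 0
    obtain ⟨c, hc⟩ : ∃ c, E = c + e i :=
      ⟨E - e i, (Nat.sub_add_cancel (Finset.single_le_sum (fun i _ => Nat.zero_le (e i)) (Finset.mem_univ i))).symm⟩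
    rw [hc, pow_add, mul_assoc, he, mul_zero]
  refine ⟨E + (L + (p + Q)), ?_, by rw [add_comm, pow_add, mul_smul, hE, smul_zero]⟩
  rw [pow_add, mul_smul, hsplit, smul_add, ← map_smul, hE, map_zero, add_zero]
  exact Submodule.smul_mem _ _ (Submodule.sum_mem _ fun j _ =>
    Submodule.smul_mem _ _ (Submodule.subset_span ⟨j, rfl⟩))

/-- Scalars whose homothety of `M` is a sum of maps through `A`. -/
def factorIdeal (M : Type u) [AddCommGroup M] [Module A M] : Ideal A where
  carrier := {r | (r • LinearMap.id : M →ₗ[A] M) ∈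
    Submodule.span A {h : M →ₗ[A] M | ∃ (t : M →ₗ[A] A) (s : A →ₗ[A] M), h = s ∘ₗ t}}
  add_mem' {a b} ha hb := by
    simp only [Set.mem_ofPred_eq, add_smul]; exact Submodule.add_mem _ ha hb
  zero_mem' := by simp
  smul_mem' c a ha := by
    simp only [Set.mem_ofPred_eq, smul_eq_mul, mul_smul]; exact Submodule.smul_mem _ c ha

theorem mem_factorIdeal {M : Type u} [AddCommGroup M] [Module A M] {n : ℕ} {r : A}
    (t : M →ₗ[A] (Fin n → A)) (s : (Fin n → A) →ₗ[A] M) (h : r • LinearMap.id = s ∘ₗ t) :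
    r ∈ factorIdeal M := by
  classical
  show (r • LinearMap.id : M →ₗ[A] M) ∈ Submodule.span A _
  have hsum : s ∘ₗ t = ∑ i, (s ∘ₗ LinearMap.single A (fun _ : Fin n => A) i) ∘ₗ (LinearMap.proj i ∘ₗ t) := by
    ext z
    simp only [LinearMap.coe_sum, Finset.sum_apply, LinearMap.comp_apply, LinearMap.single_apply,
      LinearMap.proj_apply]
    rw [← map_sum, Finset.univ_sum_single]
  rw [h, hsum]
  exact Submodule.sum_mem _ fun i _ => Submodule.subset_span ⟨_, _, rfl⟩

/-- A finitely presented module mapping onto `M`, isomorphically away from finitely many elements. -/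
theorem exists_fp (hπ : Function.Surjective π) {ι : Type u} [Finite ι] (g : ι → A)
    (S : ι → Type u) [∀ i, CommRing (S i)] [∀ i, Algebra A (S i)]
    [∀ i, IsLocalization.Away (g i) (S i)] (N : ι → Type u) [∀ i, AddCommGroup (N i)] [∀ i, Module A (N i)]
    [∀ i, Module (S i) (N i)] [∀ i, IsScalarTower A (S i) (N i)]
    (f : ∀ i, M →ₗ[A] N i) [∀ i, IsLocalizedModule.Away (g i) (f i)]
    (h : ∀ i, ∃ n : ℕ, Nonempty (Module.Basis (Fin n) (S i) (N i))) :
    ∃ (M' : Type u) (_ : AddCommGroup M') (_ : Module A M') (ρ : M' →ₗ[A] M),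
      Function.Surjective ρ ∧ (∀ y, ρ y = 0 → ∀ i, ∃ l : ℕ, g i ^ l • y = 0) ∧
      ∀ i, g i ∈ (factorIdeal M' (A := A)).radical := by
  classical
  choose n hn using h
  have h := fun i => exists_local π hπ (g i) (S i) (N i) (f i) (n i) (hn i).some
  choose x t s k hx hst hr using h
  let R' : Submodule A (Fin N₀ → A) := Submodule.span A (⋃ i, Set.range (x i))
  have hR : R' ≤ LinearMap.ker π := Submodule.span_le.2 (Set.iUnion_subset fun i => by
    rintro _ ⟨j, rfl⟩; exact hx i j)
  refine ⟨(Fin N₀ → A) ⧸ R', inferInstance, inferInstance, R'.liftQ π hR, fun z => ?_, fun y hy i => ?_,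
    fun i => ?_⟩
  · obtain ⟨w, hw⟩ := hπ z
    exact ⟨Submodule.Quotient.mk w, hw⟩
  · obtain ⟨w, rfl⟩ := Submodule.Quotient.mk_surjective _ y
    obtain ⟨l, hl, -⟩ := hr i w hy
    exact ⟨l, (Submodule.Quotient.mk_eq_zero _).2
      (Submodule.span_mono (Set.subset_iUnion (fun i => Set.range (x i)) i) hl)⟩
  · -- bounded torsion of `t` on the finitely many relations
    haveI := Fintype.ofFinite ι
    choose e _ he using fun i' j => hr i (x i' j) (hx i' j)
    let E := ∑ z : ι × Fin N₀, e z.1 z.2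
    have ht : R' ≤ LinearMap.ker (g i ^ E • t i) := Submodule.span_le.2 (Set.iUnion_subset fun i' => by
      rintro _ ⟨j, rfl⟩
      show g i ^ E • t i (x i' j) = 0
      obtain ⟨c, hc⟩ : ∃ c, E = c + e i' j :=
        ⟨E - e i' j, (Nat.sub_add_cancel (Finset.single_le_sum (fun z _ => Nat.zero_le (e z.1 z.2))
          (Finset.mem_univ (i', j)))).symm⟩
      rw [hc, pow_add, mul_smul, he, smul_zero])
    refine ⟨E + k i, mem_factorIdeal (R'.liftQ _ ht) (R'.mkQ ∘ₗ s i) ?_⟩
    refine Submodule.linearMap_qext _ (LinearMap.pi_ext' fun j => LinearMap.ext_ring ?_)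
    show g i ^ (E + k i) • Submodule.Quotient.mk (p := R') (Pi.single j (1 : A)) =
      Submodule.Quotient.mk (p := R') (s i (g i ^ E • t i (Pi.single j (1 : A))))
    rw [map_smul, hst, ← Submodule.Quotient.mk_smul, Submodule.Quotient.eq, pow_add, mul_smul, ← smul_sub,
      sub_sub_cancel]
    exact Submodule.smul_mem _ _ (Submodule.subset_span (Set.mem_iUnion.2 ⟨i, j, rfl⟩))

end Groth.Agent.H1Punct
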