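import Groth.Prelude.Def_Wider
import Groth.Prelude.Def_Coh
import Groth.Prelude.Def_FlatMod2
import Groth.Prelude.Def_Formal
import Groth.Agent.H1Punct.Alg
import Groth.Agent.QCoh.ExtendFT
import Groth.Agent.QCoh.Tilde
import Groth.Agent.QCoh.RpushProper
import Groth.Agent.QCoh.LocFree
import Groth.Agent.Algz7.Tilde
import Groth.Agent.Algz7.Restrict
import Groth.Agent.KFlatLib.Scheme.ExtZero
import Groth.Agent.PerfGen7.AffineOpen

/-! Powers of an ideal killing the cohomology of finite locally free modules on a punctured spectrum. -/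

set_option linter.style.haveILetI false
set_option backward.isDefEq.respectTransparency false
set_option backward.isDefEq.respectTransparency.types false

universe u

open CategoryTheory CategoryTheory.Limits AlgebraicGeometry TopologicalSpace Opposite

namespace Groth.Agent.H1Punct

open Groth.Agent

theorem exists_fp_spec (R : CommRingCat.{u}) (M : ModuleCat.{u} R) {N₀ : ℕ} (π : (Fin N₀ → R) →ₗ[R] M)
    (hπ : Function.Surjective π) {ι : Type u} [Finite ι] (g : ι → R)
    (h : ∀ i, ∃ n : ℕ, Nonempty (Module.Basis (Fin n) Γ(Spec R, PrimeSpectrum.basicOpen (g i))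
      Γ(tilde M, PrimeSpectrum.basicOpen (g i)))) :
    ∃ (M' : Type u) (_ : AddCommGroup M') (_ : Module R M') (ρ : M' →ₗ[R] M),
      Function.Surjective ρ ∧ (∀ y, ρ y = 0 → ∀ i, ∃ l : ℕ, g i ^ l • y = 0) ∧
      ∀ i, g i ∈ (factorIdeal M' (A := R)).radical := by
  let V : ι → (Spec R).Opens := fun i => PrimeSpectrum.basicOpen (g i)
  haveI : ∀ i, IsLocalization.Away (g i) Γ(Spec R, V i) := fun i =>
    (inferInstance : IsLocalization.Away (g i) Γ(Spec R, PrimeSpectrum.basicOpen (g i)))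
  haveI : ∀ i, IsScalarTower R Γ(Spec R, V i) Γ(tilde M, V i) := fun i => inferInstance
  haveI : ∀ i, IsLocalizedModule.Away (g i) (tilde.toOpen M (V i)).hom := fun i =>
    (inferInstance : IsLocalizedModule.Away (g i) (tilde.toOpen M (PrimeSpectrum.basicOpen (g i))).hom)
  exact exists_fp π hπ g (fun i => Γ(Spec R, V i)) (fun i => Γ(tilde M, V i))
    (fun i => (tilde.toOpen M (V i)).hom) h

variable {A : Type u} [CommRing A] (U : (Spec (CommRingCat.of A)).Opens)

/-- `M ↦ M~|U`. -/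
noncomputable abbrev Φ : ModuleCat.{u} (CommRingCat.of A) ⥤ (U : Scheme.{u}).Modules :=
  tilde.functor (CommRingCat.of A) ⋙ Scheme.Modules.restrictFunctor U.ι

instance : (Φ U).Additive := by
  haveI : PreservesFiniteLimits (tilde.functor (CommRingCat.of A)) :=
    QCoh.tilde_preservesFiniteLimits (R := CommRingCat.of A)
  haveI : (tilde.functor (CommRingCat.of A)).Additive :=
    Functor.additive_of_preserves_binary_products _
  infer_instance

/-- A map of modules with torsion kernel and zero cokernel on `U` becomes an isomorphism on `U`. -/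
theorem isIso_Φ {M N : ModuleCat.{u} (CommRingCat.of A)} (ρ : M ⟶ N) (hs : Function.Surjective ρ.hom)
    (hk : ∀ (x : Spec (CommRingCat.of A)), x ∈ U → ∀ y : M, ρ.hom y = 0 → ∃ s : A, s ∉ x.asIdeal ∧ s • y = 0) :
    IsIso ((Φ U).map ρ) := by
  refine KFlatLib.isIso_of_stalk _ fun u => ?_
  haveI : (tilde.functor (CommRingCat.of A)).IsLeftAdjoint := tilde.adjunction.isLeftAdjoint
  haveI : Epi ρ := (ModuleCat.epi_iff_surjective _).2 hs
  let G := tilde.functor (CommRingCat.of A) ⋙ DerSch.stalkFunctor (Spec (CommRingCat.of A)) (U.ι.base u)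
  haveI : PreservesFiniteLimits (tilde.functor (CommRingCat.of A)) :=
    QCoh.tilde_preservesFiniteLimits (R := CommRingCat.of A)
  haveI : PreservesFiniteColimits (tilde.functor (CommRingCat.of A)) :=
    QCoh.tilde_preservesFiniteColimits (R := CommRingCat.of A)
  haveI : PreservesFiniteLimits G := comp_preservesFiniteLimits _ _
  haveI : PreservesFiniteColimits G := comp_preservesFiniteColimits _ _
  haveI : G.Additive := Functor.additive_of_preserves_binary_products _
  haveI : G.PreservesHomology := inferInstance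
  let S := ShortComplex.mk (kernel.ι ρ) ρ (kernel.condition ρ)
  have hS : S.Exact := ShortComplex.exact_of_f_is_kernel _ (kernelIsKernel ρ)
  have hzero : IsZero (G.obj (kernel ρ)) := by
    refine (PerfGen7.isZero_stalk_tilde_iff _ _).2 fun y => ?_
    obtain ⟨s, hs, hsy⟩ := hk _ u.2 ((kernel.ι ρ).hom y)
      (congr(($(kernel.condition ρ)).hom y))
    refine ⟨s, hs, (ModuleCat.mono_iff_injective (kernel.ι ρ)).1 inferInstance ?_⟩
    exact ((kernel.ι ρ).hom.map_smul s y).trans (hsy.trans (map_zero _).symm)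
  haveI hepi : Epi (G.map ρ) := by
    haveI : Epi ((tilde.functor (CommRingCat.of A)).map ρ) := inferInstance
    exact (DerSch.stalkFunctor _ _).map_epi _
  haveI hmono : Mono (G.map ρ) :=
    ((S.map G).exact_iff_mono (hzero.eq_of_src _ _)).1 (hS.map G)
  have hbij : Function.Bijective (G.map ρ) :=
    ⟨(ModuleCat.mono_iff_injective _).1 hmono, (ModuleCat.epi_iff_surjective _).1 hepi⟩
  let F₀ := Scheme.Modules.toPresheaf (Spec (CommRingCat.of A)) ⋙
    TopCat.Presheaf.stalkFunctor Ab.{u} (U.ι.base u)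
  haveI : IsIso (F₀.map ((tilde.functor (CommRingCat.of A)).map ρ)) :=
    (ConcreteCategory.isIso_iff_bijective _).2 hbij
  have h1 := (NatIso.isIso_map_iff (Scheme.Modules.restrictStalkNatIso U.ι u)
    ((tilde.functor (CommRingCat.of A)).map ρ)).2 inferInstance
  exact (ConcreteCategory.isIso_iff_bijective _).2 (ConcreteCategory.bijective_of_isIso
    ((Scheme.Modules.restrictFunctor U.ι ⋙ Scheme.Modules.toPresheaf _ ⋙
      TopCat.Presheaf.stalkFunctor Ab.{u} u).map ((tilde.functor (CommRingCat.of A)).map ρ)))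

/-- Homotheties. -/
theorem Φ_map_smul (M : ModuleCat.{u} (CommRingCat.of A)) (r : A) :
    (Φ U).map (ModuleCat.ofHom (r • LinearMap.id : M →ₗ[A] M)) =
      Formal.smulMod A ((Φ U).obj M) r := by
  have h : (tilde.functor (CommRingCat.of A)).map (ModuleCat.ofHom (r • LinearMap.id : M →ₗ[A] M)) =
      @Formal.smulMod A _ (Spec (CommRingCat.of A)) ⟨𝟙 _⟩ ((tilde.functor (CommRingCat.of A)).obj M) r := by
    apply ((tilde.adjunction (R := CommRingCat.of A)).homEquiv _ _).injective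
    rw [Adjunction.homEquiv_unit, Adjunction.homEquiv_unit]
    refine ((tilde.adjunction (R := CommRingCat.of A)).unit.naturality _).symm.trans ?_
    ext m
    exact (((tilde.adjunction (R := CommRingCat.of A)).unit.app M).hom.map_smul r m).trans rfl
  letI : (Spec (CommRingCat.of A)).Over (Spec (CommRingCat.of A)) := ⟨𝟙 _⟩
  show (Scheme.Modules.restrictFunctor U.ι).map _ = _
  rw [h]
  exact Algz7.restrict_smulMod U.ι (by simp) _ _

/-- `H^p` of a morphism. -/
noncomputable abbrev Hm {X : Scheme.{u}} {M N : X.Modules} (φ : M ⟶ N) (p : ℕ) : Coh.HH X M p →+ Coh.HH X N p :=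
  Sheaf.H.map ((SheafOfModules.toSheaf X.ringCatSheaf).map φ) p

variable (p : ℕ) (T : Set A)

/-- If `T` kills `H^p(O)`, it kills the image of the factorisation ideal. -/
theorem killed (hO : ∀ a ∈ T, ∀ x : Coh.HH (↑U) (Coh.structureModule (↑U)) p, a • x = 0)
    (M : ModuleCat.{u} (CommRingCat.of A)) {r : A} (hr : r ∈ factorIdeal (A := A) M) {a : A} (ha : a ∈ T)
    (x : Coh.HH (↑U) ((Φ U).obj M) p) : (a * r) • x = 0 := by
  have hsmul : ∀ (N : (U : Scheme.{u}).Modules) (b : A) (z : Coh.HH (↑U) N p),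
      b • z = Hm (Formal.smulMod A N b) p z := fun _ _ _ => rfl
  have hlin : ∀ {N N' : (U : Scheme.{u}).Modules} (φ : N ⟶ N') (b : A) (z : Coh.HH (↑U) N p),
      Hm φ p (b • z) = b • Hm φ p z := by
    intro N N' φ b z
    rw [hsmul, hsmul]
    simp only [Hm, ← Sheaf.H.map_comp_apply, ← Functor.map_comp]
    rw [Algz7.smulMod_naturality]
  have hu : ∀ z : Coh.HH (↑U) ((Φ U).obj (ModuleCat.of A A)) p, a • z = 0 := fun z => by
    let e : (Φ U).obj (ModuleCat.of A A) ≅ Coh.structureModule (↑U) :=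
      (Scheme.Modules.restrictFunctor U.ι).mapIso (tildeSelf (R := CommRingCat.of A)) ≪≫
        Scheme.Modules.restrictUnitIso U.ι
    have hz : Hm e.inv p (Hm e.hom p z) = z := by
      rw [← Sheaf.H.map_comp_apply, ← Functor.map_comp, e.hom_inv_id, CategoryTheory.Functor.map_id,
        Sheaf.H.map_id_apply]
    rw [← hz, ← hlin, hO a ha, map_zero]
  have main : ∀ h : M →ₗ[A] M, h ∈ Submodule.span A
      {h : M →ₗ[A] M | ∃ (t : M →ₗ[A] A) (s : A →ₗ[A] M), h = s ∘ₗ t} →
      ∀ x, a • Hm ((Φ U).map (ModuleCat.ofHom h)) p x = 0 := by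
    intro h hh
    induction hh using Submodule.span_induction with
    | mem h hh =>
      obtain ⟨t, s, rfl⟩ := hh
      intro x
      rw [show ModuleCat.ofHom (s ∘ₗ t) = (ModuleCat.ofHom t : M ⟶ ModuleCat.of A A) ≫ ModuleCat.ofHom s from rfl,
        Functor.map_comp, Hm, Functor.map_comp, Sheaf.H.map_comp_apply, ← hlin, hu, map_zero]
    | zero =>
      intro x
      rw [show ModuleCat.ofHom (0 : M →ₗ[A] M) = (0 : M ⟶ M) from rfl, Functor.map_zero, Hm, Functor.map_zero]
      have h0 := Sheaf.H.map_add_apply (0 : Coh.toAb ((Φ U).obj M) ⟶ Coh.toAb ((Φ U).obj M)) 0 x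
      rw [add_zero] at h0
      rw [left_eq_add.1 h0, smul_zero]
    | add h h' _ _ i i' =>
      intro x
      rw [show ModuleCat.ofHom (h + h') = (ModuleCat.ofHom h : M ⟶ M) + ModuleCat.ofHom h' from rfl,
        Functor.map_add, Hm, Functor.map_add, Sheaf.H.map_add_apply, smul_add, i, i', add_zero]
    | smul c h _ i =>
      intro x
      rw [show ModuleCat.ofHom (c • h) =
        (ModuleCat.ofHom h : M ⟶ M) ≫ ModuleCat.ofHom (c • LinearMap.id : M →ₗ[A] M) from rfl,
        Functor.map_comp, Φ_map_smul, Hm, Functor.map_comp, Sheaf.H.map_comp_apply, ← Hm, ← hsmul,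
        smul_comm, i, smul_zero]
  have h2 := main _ hr x
  rw [Φ_map_smul, ← hsmul] at h2
  rw [mul_smul]
  exact h2

set_option maxHeartbeats 1000000 in
/-- Presentation of a finite locally free module on the punctured spectrum. -/
theorem exists_module (I : Ideal A) (hI : I.FG) (F : (↑(LocCoh.puncturedOpen A I) : Scheme.{u}).Modules)
    (hF : FlatMod.IsFinLocFree F) : ∃ M : ModuleCat.{u} (CommRingCat.of A),
      Nonempty (F ≅ (Φ (LocCoh.puncturedOpen A I)).obj M) ∧ I ≤ (factorIdeal (A := A) M).radical := by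
  classical
  let X := Spec (CommRingCat.of A)
  let U := LocCoh.puncturedOpen A I
  have hcpt : IsCompact (U : Set X) := by
    obtain ⟨s, hs⟩ := hI
    exact (PrimeSpectrum.isCompact_isOpen_iff_ideal.2 ⟨I, ⟨s, hs⟩, rfl⟩).1
  haveI : QuasiCompact U.ι := QCoh.quasiCompact_ι_of_compact U hcpt
  obtain ⟨G, hG, hft, ⟨eG⟩⟩ := QCoh.exists_extension_abs (QCoh.extStep_qcqs hcpt) F
    (QCoh.isQCoh_of_isFinLocFree hF) (QCoh.isFT_of_isFP (QCoh.isFP_of_isFinLocFree hF))
  obtain ⟨M, ⟨i⟩⟩ := QCoh.isQCoh_spec_iff.1 hG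
  haveI : Module.Finite A M :=
    haveI := (QCoh.isFT_iff_finite (R := CommRingCat.of A) G hG).1 hft
    Module.Finite.equiv (((moduleSpecΓFunctor (R := CommRingCat.of A)).mapIso i).symm ≪≫
      ((tilde.toTildeΓNatIso (R := CommRingCat.of A)).app M).symm).toLinearEquiv
  let e : F ≅ (tilde M).restrict U.ι := eG.symm ≪≫ (Scheme.Modules.restrictFunctor U.ι).mapIso i.symm
  -- free charts
  have hchart : ∀ x : U, ∃ (g : A) (n : ℕ), PrimeSpectrum.basicOpen g ≤ U ∧ g ∉ (x.1 : X).asIdeal ∧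
      Nonempty (Module.Basis (Fin n) Γ(Spec (CommRingCat.of A), PrimeSpectrum.basicOpen g) Γ(tilde M, PrimeSpectrum.basicOpen g)) := by
    intro x
    obtain ⟨W, n, hxW, ⟨eW⟩⟩ := hF x
    obtain ⟨_, ⟨g, rfl⟩, hxg, hle⟩ := PrimeSpectrum.isTopologicalBasis_basic_opens.exists_subset_of_mem_open
      (show (x.1 : X) ∈ (U.ι ''ᵁ W : Set X) from ⟨x, hxW, rfl⟩) (U.ι ''ᵁ W).2
    refine ⟨g, n, fun y hy => U.ι_image_le W (hle hy), hxg, ?_⟩
    let D : X.Opens := PrimeSpectrum.basicOpen g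
    have hr : Set.range D.ι.base ⊆ Set.range (W.ι ≫ U.ι).base := by
      rw [Scheme.Opens.range_ι]
      intro y hy
      obtain ⟨w, hw, rfl⟩ := hle hy
      exact ⟨⟨w, hw⟩, rfl⟩
    let k := IsOpenImmersion.lift (W.ι ≫ U.ι) D.ι hr
    haveI : IsOpenImmersion k := by
      haveI : IsOpenImmersion (k ≫ (W.ι ≫ U.ι)) := by rw [IsOpenImmersion.lift_fac]; infer_instance
      exact IsOpenImmersion.of_comp k (W.ι ≫ U.ι)
    let eD : (tilde M).restrict D.ι ≅ FlatMod.freeMod (D : Scheme.{u}) n :=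
      (Scheme.Modules.restrictFunctorCongr (IsOpenImmersion.lift_fac (W.ι ≫ U.ι) D.ι hr).symm).app _ ≪≫
      (QCoh.restrictRestrict _ k (W.ι ≫ U.ι)).symm ≪≫
      (Scheme.Modules.restrictFunctor k).mapIso ((QCoh.restrictRestrict _ W.ι U.ι).symm ≪≫
        (Scheme.Modules.restrictFunctor W.ι).mapIso e.symm ≪≫ eW) ≪≫ QCoh.freeModRestrict k n
    obtain ⟨l⟩ := QCoh.free_sections (U := D) (V := D) (IsAffineOpen.Spec_basicOpen g) le_rfl eD
    exact ⟨(Module.Basis.ofRepr l).reindex Equiv.ulift⟩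
  choose g n hgU hgx hb using hchart
  -- finitely many charts suffice
  have hrad : I ≤ (Ideal.span (Set.range g)).radical := by
    rw [Ideal.radical_eq_sInf]
    refine fun y hy => Ideal.mem_sInf.2 fun {P} hP => ?_
    by_contra hyP
    let x : X := ⟨P, hP.2⟩
    have hxU : x ∈ U := fun h => hyP (h hy)
    exact hgx ⟨x, hxU⟩ (hP.1 (Ideal.subset_span ⟨_, rfl⟩))
  obtain ⟨N, hN⟩ := Ideal.exists_pow_le_of_le_radical_of_fg hrad hI
  obtain ⟨t, htI⟩ : ∃ t : Finset U, I ^ N ≤ Ideal.span (g '' (t : Set U)) := by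
    obtain ⟨s, hs⟩ := Ideal.FG.pow (n := N) hI
    have : ∀ y ∈ s, ∃ t : Finset U, y ∈ Ideal.span (g '' (t : Set U)) := fun y hy => by
      obtain ⟨T, hT, hyT⟩ := Submodule.mem_span_finite_of_mem_span (hN (hs ▸ Ideal.subset_span hy))
      obtain ⟨t, -, ht⟩ := Finset.subset_set_image_iff.1 (Set.image_univ (f := g) ▸ hT : (T : Set A) ⊆ g '' Set.univ)
      refine ⟨t, Ideal.span_mono ?_ hyT⟩
      rw [← ht, Finset.coe_image]
    choose! t ht using this
    refine ⟨s.biUnion t, hs ▸ Ideal.span_le.2 fun y hy => ?_⟩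
    exact Ideal.span_mono (Set.image_mono (Finset.coe_subset.2 (Finset.subset_biUnion_of_mem t hy))) (ht y hy)
  obtain ⟨N₀, π, hπ⟩ := Module.Finite.exists_fin' A M
  obtain ⟨M', h1, h2, ρ, hρ, hker, hfac⟩ :=
    exists_fp_spec (CommRingCat.of A) M π hπ (fun i : t => g i.1) (fun i => ⟨_, hb i.1⟩)
  letI := h1
  letI := h2
  have hsub : I ≤ (Ideal.span (g '' (t : Set U))).radical := fun y hy => ⟨N, htI (Ideal.pow_mem_pow hy N)⟩
  haveI := isIso_Φ U (ModuleCat.ofHom ρ : ModuleCat.of A M' ⟶ M) hρ fun x hx y hy => by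
    have hnot : ¬ (g '' (t : Set U)) ⊆ (x.asIdeal : Set A) := fun h => hx fun z hz =>
      x.isPrime.radical_le_iff.2 (Ideal.span_le.2 h) (hsub hz)
    obtain ⟨_, ⟨i, hi, rfl⟩, hix⟩ := Set.not_subset.1 hnot
    obtain ⟨l, hl⟩ := hker y hy ⟨i, hi⟩
    exact ⟨g i ^ l, fun h => hix (x.isPrime.mem_of_pow_mem l h), hl⟩
  refine ⟨ModuleCat.of A M', ⟨e ≪≫ (asIso ((Φ U).map (ModuleCat.ofHom ρ : ModuleCat.of A M' ⟶ M))).symm⟩, ?_⟩
  refine hsub.trans (Ideal.radical_le_radical_iff.2 (Ideal.span_le.2 ?_))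
  rintro _ ⟨i, hi, rfl⟩
  exact hfac ⟨i, hi⟩

theorem main (J I : Ideal A) (hJI : J ≤ I) (hJ : J.FG) (hI : I.FG) (n : ℕ)
    (hO : ∀ a ∈ J ^ n, ∀ x : Coh.HH (↑(LocCoh.puncturedOpen A I))
      (Coh.structureModule (↑(LocCoh.puncturedOpen A I))) p, a • x = 0)
    (F : (↑(LocCoh.puncturedOpen A I) : Scheme.{u}).Modules) (hF : FlatMod.IsFinLocFree F) :
    ∃ m : ℕ, ∀ a ∈ J ^ m, ∀ x : Coh.HH (↑(LocCoh.puncturedOpen A I)) F p, a • x = 0 := by
  obtain ⟨M, ⟨e⟩, hrad⟩ := exists_module I hI F hF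
  obtain ⟨k, hk⟩ := Ideal.exists_pow_le_of_le_radical_of_fg (hJI.trans hrad) hJ
  refine ⟨n + k, fun a ha x => ?_⟩
  rw [pow_add] at ha
  induction ha using Submodule.mul_induction_on' with
  | mem_mul_mem b hb c hc =>
    have h := killed (LocCoh.puncturedOpen A I) p (J ^ n : Ideal A) hO M (hk hc) hb (Hm e.hom p x)
    have hx : Hm e.inv p (Hm e.hom p x) = x := by
      rw [← Sheaf.H.map_comp_apply, ← Functor.map_comp, e.hom_inv_id, CategoryTheory.Functor.map_id,
        Sheaf.H.map_id_apply]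
    have hl : ∀ z, Hm e.inv p ((b * c) • z) = (b * c) • Hm e.inv p z := fun z => by
      change Hm e.inv p (Hm (Formal.smulMod A _ _) p z) = Hm (Formal.smulMod A _ _) p _
      simp only [Hm, ← Sheaf.H.map_comp_apply, ← Functor.map_comp]
      rw [Algz7.smulMod_naturality]
    rw [← hx, ← hl, h, map_zero]
  | add b _ c _ hb hc => rw [add_smul, hb, hc, add_zero]

end Groth.Agent.H1Punct
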