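import Groth.Prelude.Def_Wider
import Mathlib

/-! Sections of a tilde module over the punctured spectrum. -/

set_option linter.style.haveILetI false
set_option backward.isDefEq.respectTransparency false
set_option backward.isDefEq.respectTransparency.types false

universe u

open CategoryTheory AlgebraicGeometry TopologicalSpace Opposite

namespace Groth.Agent.H1Punct

variable {R : CommRingCat.{u}} (N : ModuleCat.{u} R)

/-- Sections of `N~` over an open. -/
noncomputable abbrev Sec (V : (Spec R).Opens) : ModuleCat.{u} R :=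
  (modulesSpecToSheaf.obj (tilde N)).presheaf.obj (op V)

/-- Restriction. -/
noncomputable abbrev rs {V W : (Spec R).Opens} (h : W ≤ V) : Sec N V ⟶ Sec N W :=
  (modulesSpecToSheaf.obj (tilde N)).presheaf.map (homOfLE h).op

theorem rs_rs {V W Z : (Spec R).Opens} (h : W ≤ V) (h' : Z ≤ W) (s : Sec N V) :
    (rs N h').hom ((rs N h).hom s) = (rs N (h'.trans h)).hom s :=
  (congr(($((modulesSpecToSheaf.obj (tilde N)).presheaf.map_comp (homOfLE h).op (homOfLE h').op)).hom s)).symm

theorem sec_ext {ι : Type u} (V : ι → (Spec R).Opens) {W : (Spec R).Opens} (hle : ∀ i, V i ≤ W)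
    (hcov : W ≤ iSup V) {s t : Sec N W} (h : ∀ i, (rs N (hle i)).hom s = (rs N (hle i)).hom t) : s = t :=
  TopCat.Sheaf.eq_of_locally_eq' (modulesSpecToSheaf.obj (tilde N)) V W (fun i => homOfLE (hle i)) hcov s t h

theorem regular_basicOpen {g : R} {V : (Spec R).Opens} (hle : V ≤ PrimeSpectrum.basicOpen g) {n : ℕ}
    {s : Sec N V} (h : g ^ n • s = 0) : s = 0 := by
  have hr : IsSMulRegular (Sec N V) g := Scheme.Modules.isSMulRegular_of_le_basicOpen (M := tilde N) hle
  exact (hr.pow n) (h.trans (smul_zero _).symm)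

theorem exists_cover [IsNoetherianRing R] (W : (Spec R).Opens) :
    ∃ (ι : Type u) (_ : Finite ι) (f : ι → R), (∀ i, PrimeSpectrum.basicOpen (f i) ≤ W) ∧
      W ≤ ⨆ i, (PrimeSpectrum.basicOpen (f i) : (Spec R).Opens) := by
  obtain ⟨J, hJ⟩ := (PrimeSpectrum.isClosed_iff_zeroLocus_ideal _).1 W.2.isClosed_compl
  obtain ⟨s, hs⟩ := J.fg_of_isNoetherianRing
  refine ⟨↥(s : Set R), Finset.finite_toSet s, Subtype.val, fun i x hx => ?_, fun x hx => ?_⟩
  · by_contra hxW
    have h : x ∈ (show Set (PrimeSpectrum R) from W.carrier)ᶜ := hxW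
    rw [hJ] at h
    exact hx (h (hs ▸ Ideal.subset_span i.2))
  · rw [Opens.mem_iSup]
    by_contra h
    push Not at h
    have : x ∈ PrimeSpectrum.zeroLocus (J : Set R) := by
      rw [← hs, PrimeSpectrum.mem_zeroLocus, SetLike.coe_subset_coe, Ideal.span_le]
      exact fun y hy => not_not.1 (h ⟨y, hy⟩)
    rw [← hJ] at this
    exact this hx

/-- A section vanishing on `D(g)` is killed by a power of `g`. -/
theorem exists_pow_smul_eq_zero [IsNoetherianRing R] (g : R) {W V : (Spec R).Opens} (h : V ≤ W)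
    (hV : W ⊓ PrimeSpectrum.basicOpen g ≤ V) (s : Sec N W) (hs : (rs N h).hom s = 0) :
    ∃ l : ℕ, g ^ l • s = 0 := by
  obtain ⟨ι, _, f, hf, hcov⟩ := exists_cover W
  have h1 : ∀ i, ∃ l : ℕ, g ^ l • (rs N (hf i)).hom s = 0 := fun i => by
    let D : (Spec R).Opens := PrimeSpectrum.basicOpen (f i)
    let E : (Spec R).Opens := PrimeSpectrum.basicOpen (f i * g)
    have hEf : E ≤ D := PrimeSpectrum.basicOpen_mul_le_left _ _
    have hEg : E ≤ (PrimeSpectrum.basicOpen g : (Spec R).Opens) := PrimeSpectrum.basicOpen_mul_le_right _ _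
    have hEV : E ≤ V := (le_inf (hEf.trans (hf i)) hEg).trans hV
    obtain ⟨⟨m, ⟨_, k, rfl⟩⟩, hm⟩ := IsLocalizedModule.surj (Submonoid.powers (f i))
      (tilde.toOpen N D).hom ((rs N (hf i)).hom s)
    have hm' : f i ^ k • (rs N (hf i)).hom s = (tilde.toOpen N D).hom m := hm
    have h0 : (tilde.toOpen N E).hom m = 0 := by
      have e1 : (rs N hEf).hom ((tilde.toOpen N D).hom m) = (tilde.toOpen N E).hom m :=
        congr(($(tilde.toOpen_res N D E (homOfLE hEf))).hom m)
      rw [← e1, ← hm', map_smul, rs_rs, ← rs_rs N h hEV, hs, map_zero, smul_zero]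
    obtain ⟨⟨_, e, rfl⟩, he⟩ := (IsLocalizedModule.eq_zero_iff (Submonoid.powers (f i * g))
      (tilde.toOpen N E).hom).1 h0
    have he' : (f i * g) ^ e • m = 0 := he
    refine ⟨e, regular_basicOpen N (g := f i) le_rfl (n := e + k) ?_⟩
    rw [smul_smul, pow_add, mul_right_comm, ← mul_pow, mul_smul, hm', ← map_smul, he', map_zero]
  choose l hl using h1
  haveI := Fintype.ofFinite ι
  refine ⟨∑ i, l i, sec_ext N (fun i => PrimeSpectrum.basicOpen (f i)) hf hcov fun i => ?_⟩
  obtain ⟨c, hc⟩ : ∃ c, ∑ i, l i = c + l i :=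
    ⟨_ - l i, (Nat.sub_add_cancel (Finset.single_le_sum (fun i _ => Nat.zero_le (l i)) (Finset.mem_univ i))).symm⟩
  rw [map_smul, map_zero, hc, pow_add, mul_smul, hl, smul_zero]

theorem exists_pow_torsion {M : Type u} [AddCommGroup M] [Module R M] (a : Ideal R) [IsNoetherianRing R]
    (x : M) (h : ∀ g ∈ a, ∃ l : ℕ, g ^ l • x = 0) : ∃ n : ℕ, ∀ b ∈ a ^ n, b • x = 0 := by
  let K : Ideal R := LinearMap.ker (LinearMap.toSpanSingleton R M x)
  have hle : a ≤ K.radical := fun g hg => by
    obtain ⟨l, hl⟩ := h g hg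
    exact ⟨l, hl⟩
  obtain ⟨n, hn⟩ := Ideal.exists_pow_le_of_le_radical_of_fg hle a.fg_of_isNoetherianRing
  exact ⟨n, fun b hb => hn hb⟩

theorem mem_iSup_torsion {M : Type u} [AddCommGroup M] [Module R M] (a : Ideal R) (x : M) :
    x ∈ ⨆ n : ℕ, LocCoh.torsionBy (a ^ n) M ↔ ∃ n : ℕ, ∀ b ∈ a ^ n, b • x = 0 := by
  rw [Submodule.mem_iSup_of_directed]
  · simp [LocCoh.torsionBy, Submodule.mem_torsionBySet_iff]
  · refine Monotone.directed_le fun i j hij x hx => ?_
    simp only [LocCoh.torsionBy, Submodule.mem_torsionBySet_iff, Subtype.forall] at hx ⊢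
    exact fun b hb => hx b (Ideal.pow_le_pow_right hij hb)

variable (a : Ideal R) (U : (Spec R).Opens) (hU : (show Set (PrimeSpectrum R) from U.carrier) = (PrimeSpectrum.zeroLocus (a : Set R))ᶜ)

include hU in
theorem basicOpen_le {g : R} (hg : g ∈ a) : (PrimeSpectrum.basicOpen g : (Spec R).Opens) ≤ U := fun x hx => by
  show x ∈ (show Set (PrimeSpectrum R) from U.carrier)
  rw [hU]
  exact fun h => hx (h hg)

include hU in
theorem torsionFree (s : Sec N U) {n : ℕ} (h : ∀ b ∈ a ^ n, b • s = 0) : s = 0 := by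
  refine sec_ext N (fun g : ↥a => (PrimeSpectrum.basicOpen g.1 : (Spec R).Opens))
    (fun g => basicOpen_le a U hU g.2) (fun x hx => ?_) fun g => ?_
  · rw [Opens.mem_iSup]
    by_contra h
    push Not at h
    have hx' : x ∈ (show Set (PrimeSpectrum R) from U.carrier) := hx
    rw [hU] at hx'
    exact hx' fun y hy => not_not.1 (h ⟨y, hy⟩)
  · rw [map_zero]
    refine regular_basicOpen N (g := g.1) le_rfl (n := n) ?_
    rw [← map_smul, h _ (Ideal.pow_mem_pow g.2 n), map_zero]

include hU in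
theorem coker_torsion [IsNoetherianRing R] (s : Sec N U) :
    ∃ n : ℕ, ∀ b ∈ a ^ n, b • s ∈ LinearMap.range (tilde.toOpen N U).hom := by
  obtain ⟨n, hn⟩ := exists_pow_torsion a ((LinearMap.range (tilde.toOpen N U).hom).mkQ s) fun g hg => by
    let D : (Spec R).Opens := PrimeSpectrum.basicOpen g
    have hD : D ≤ U := basicOpen_le a U hU hg
    obtain ⟨⟨m, ⟨_, k, rfl⟩⟩, hm⟩ := IsLocalizedModule.surj (Submonoid.powers g) (tilde.toOpen N D).hom
      ((rs N hD).hom s)
    have hm' : g ^ k • (rs N hD).hom s = (tilde.toOpen N D).hom m := hm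
    obtain ⟨l, hl⟩ := exists_pow_smul_eq_zero N g hD inf_le_right (g ^ k • s - (tilde.toOpen N U).hom m) (by
      rw [map_sub, map_smul, hm']
      exact sub_eq_zero.2 (congr(($(tilde.toOpen_res N U D (homOfLE hD))).hom m)).symm)
    refine ⟨l + k, ?_⟩
    rw [← map_smul]
    refine (Submodule.Quotient.mk_eq_zero _).2 ⟨g ^ l • m, ?_⟩
    rw [smul_sub, smul_smul, ← pow_add, sub_eq_zero] at hl
    rw [map_smul, hl]
  refine ⟨n, fun b hb => ?_⟩
  have := hn b hb
  rwa [← map_smul, Submodule.mkQ_apply, Submodule.Quotient.mk_eq_zero] at this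

include hU in
theorem ker_res [IsNoetherianRing R] {W : (Spec R).Opens} (h : U ≤ W) :
    LinearMap.ker (rs N h).hom = ⨆ n : ℕ, LocCoh.torsionBy (a ^ n) (Sec N W) := by
  ext s
  rw [mem_iSup_torsion, LinearMap.mem_ker]
  constructor
  · intro hs
    exact exists_pow_torsion a s fun g hg =>
      exists_pow_smul_eq_zero N g h (inf_le_right.trans (basicOpen_le a U hU hg)) s hs
  · rintro ⟨n, hn⟩
    exact torsionFree N a U hU _ fun b hb => by rw [← map_smul, hn b hb, map_zero]

include hU in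
theorem ker_toOpen [IsNoetherianRing R] :
    LinearMap.ker (tilde.toOpen N U).hom = ⨆ n : ℕ, LocCoh.torsionBy (a ^ n) N := by
  ext m
  rw [mem_iSup_torsion, LinearMap.mem_ker]
  constructor
  · intro hm
    refine exists_pow_torsion a m fun g hg => ?_
    have h0 : (tilde.toOpen N (PrimeSpectrum.basicOpen g : (Spec R).Opens)).hom m = 0 := by
      rw [← tilde.toOpen_res N U _ (homOfLE (basicOpen_le a U hU hg))]
      show (rs N (basicOpen_le a U hU hg)).hom ((tilde.toOpen N U).hom m) = 0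
      rw [hm, map_zero]
    obtain ⟨⟨_, l, rfl⟩, hl⟩ := (IsLocalizedModule.eq_zero_iff (Submonoid.powers g) _).1 h0
    exact ⟨l, hl⟩
  · rintro ⟨n, hn⟩
    exact torsionFree N a U hU _ fun b hb => by rw [← map_smul, hn b hb, map_zero]

end Groth.Agent.H1Punct
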